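import Mathlib

/-!
The graph on the incident point-line pairs of the projective plane of order three, and a bound on
its automorphism group.
-/

set_option autoImplicit false

namespace CfsgLib.CommGraph.L33

/-- Adjacency rows of the flag graph of the plane of order 3. -/
def rowsList : List ℕ := [17956878, 8749, 1198467674275851, 584652423175, 1099780128992, 8914, 563087425929392, 35192964120688, 281479272205824, 11554, 9070975126272, 140738696316672, 17660905840640, 53794, 4415293534208, 2251801969586176, 1099780980752, 18677761, 17660906246144, 281479272136960, 31588353, 35192975655040, 9070982464512, 2251801968541696, 236060673, 563087610478656, 4415410946048, 140738679539712, 1103269789712, 587605213192, 140740575365120, 2251801701154816, 281535106777344, 35240208760960, 4445358276608, 580357455880, 18554258984960, 563843340173376, 9552011461632, 515932946440, 15393431289872, 1210562302181380, 12111874899968, 7971463496704,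 246359324364800, 228707010609280, 1321612976586756, 123146510272512, 3940653969441024, 3659312169746496, 3168792511250436, 1970326992879616]

/-- A determining order of the flags. -/
def orderList : List (Fin 52) := [0, 2, 46, 44, 12, 15, 1, 3, 13, 14, 17, 18, 20, 6, 4, 5, 7, 8, 9, 10, 11, 16, 19, 21, 22, 23, 24, 25, 26, 27, 28, 29, 30, 31, 32, 33, 34, 35, 36, 37, 38, 39, 40, 41, 42, 43, 45, 47, 48, 49, 50, 51]

/-- The flags, as pairs of a vector and a covector. -/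
def flagList : List ((ℕ × ℕ × ℕ) × (ℕ × ℕ × ℕ)) := [((0, 0, 1), (0, 1, 0)), ((0, 0, 1), (1, 0, 0)), ((0, 0, 1), (1, 1, 0)), ((0, 0, 1), (1, 2, 0)), ((0, 1, 0), (0, 0, 1)), ((0, 1, 0), (1, 0, 0)), ((0, 1, 0), (1, 0, 1)), ((0, 1, 0), (1, 0, 2)), ((0, 1, 1), (0, 1, 2)), ((0, 1, 1), (1, 0, 0)), ((0, 1, 1), (1, 1, 2)), ((0, 1, 1), (1, 2, 1)), ((0, 1, 2), (0, 1, 1)), ((0, 1, 2), (1, 0, 0)), ((0, 1, 2), (1, 1, 1)), ((0, 1, 2), (1, 2, 2)), ((1, 0, 0), (0, 0, 1)), ((1, 0, 0), (0, 1, 0)), ((1, 0, 0), (0, 1, 1)), ((1, 0, 0), (0, 1, 2)), ((1, 0, 1), (0, 1, 0)), ((1, 0, 1), (1, 0, 2)), ((1, 0, 1), (1, 1, 2)), ((1, 0, 1), (1, 2, 2)), ((1, 0, 2), (0, 1, 0)), ((1, 0, 2), (1, 0, 1)), ((1, 0, 2), (1, 1, 1)), ((1, 0, 2), (1, 2, 1)), ((1, 1, 0), (0, 0, 1)), ((1, 1, 0), (1, 2, 0)), ((1, 1, 0), (1, 2, 1)), ((1, 1, 0), (1, 2, 2)), ((1, 1, 1), (0, 1, 2)), ((1, 1, 1), (1, 0, 2)), ((1, 1, 1), (1, 1, 1)), ((1, 1, 1), (1, 2, 0)), ((1, 1, 2), (0, 1,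 1)), ((1, 1, 2), (1, 0, 1)), ((1, 1, 2), (1, 1, 2)), ((1, 1, 2), (1, 2, 0)), ((1, 2, 0), (0, 0, 1)), ((1, 2, 0), (1, 1, 0)), ((1, 2, 0), (1, 1, 1)), ((1, 2, 0), (1, 1, 2)), ((1, 2, 1), (0, 1, 1)), ((1, 2, 1), (1, 0, 2)), ((1, 2, 1), (1, 1, 0)), ((1, 2, 1), (1, 2, 1)), ((1, 2, 2), (0, 1, 2)), ((1, 2, 2), (1, 0, 1)), ((1, 2, 2), (1, 1, 0)), ((1, 2, 2), (1, 2, 2))]

/-- Elements of `SL₃(3)` moving the base flag to each flag. -/
def conjList : List (List ℕ) := [[0, 1, 0, 0, 0, 1, 1, 0, 0], [0, 0, 1, 0, 2, 0, 1, 0, 0], [0, 1, 0, 0, 2, 1, 1, 0, 0], [0, 2, 0, 0, 2, 1, 2, 0, 0], [0, 2, 0, 1, 0, 0, 0, 0, 1], [0, 0, 1, 1, 0, 0, 0, 1, 0], [0, 2, 0, 1, 0, 0, 0, 1, 1], [0, 1, 0, 1, 0, 0, 0, 1, 2], [0, 1, 0, 1, 0, 0, 1, 0, 2], [0, 0, 1, 1, 0, 0, 1, 1, 0], [0, 1, 0, 1, 0, 0, 1, 1, 2], [0, 2, 0, 1, 0, 0, 1, 1, 1], [0, 2, 0, 1, 0, 0, 2, 0, 1], [0, 0, 1, 1, 0, 0, 2, 1, 0], [0, 2, 0, 1, 0, 0, 2, 1, 1], [0, 1, 0, 1, 0, 0, 2, 1, 2], [1, 0, 0,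 0, 1, 0, 0, 0, 1], [1, 0, 0, 0, 0, 1, 0, 2, 0], [1, 0, 0, 0, 1, 0, 0, 2, 1], [1, 0, 0, 0, 2, 0, 0, 2, 2], [1, 0, 0, 0, 0, 1, 1, 2, 0], [1, 0, 0, 0, 2, 0, 1, 0, 2], [1, 0, 0, 0, 2, 0, 1, 2, 2], [1, 0, 0, 0, 2, 0, 1, 1, 2], [1, 0, 0, 0, 0, 1, 2, 2, 0], [1, 0, 0, 0, 1, 0, 2, 0, 1], [1, 0, 0, 0, 1, 0, 2, 2, 1], [1, 0, 0, 0, 1, 0, 2, 1, 1], [1, 0, 0, 1, 1, 0, 0, 0, 1], [1, 0, 0, 1, 0, 2, 0, 1, 0], [1, 0, 0, 1, 1, 0, 0, 1, 1], [1, 0, 0, 1, 2, 0, 0, 1, 2], [1, 0, 0, 1, 2, 0, 1, 2, 2], [1, 0, 0, 1, 2, 0, 1, 0, 2], [1, 0, 0, 1, 1, 0, 1, 2, 1], [1, 0, 0, 1, 0, 2, 1, 1, 0], [1, 0, 0, 1, 1, 0, 2, 2, 1], [1, 0, 0, 1, 1, 0, 2, 0, 1], [1, 0, 0, 1, 2, 0, 2, 2, 2], [1, 0, 0, 1, 0, 2, 2, 1, 0], [1, 0, 0, 2, 1, 0, 0, 0, 1], [1, 0, 0, 2, 0, 1, 0, 2, 0], [1, 0, 0, 2, 1, 0, 0, 2, 1], [1, 0, 0, 2, 2, 0, 0, 2, 2], [1, 0, 0, 2, 1, 0, 1, 2, 1], [1, 0, 0, 2, 2, 0, 1, 0, 2], [1, 0, 0, 2, 0, 1, 1, 2, 0], [1, 0, 0, 2, 1, 0, 1, 1, 1], [1, 0, 0, 2, 2,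 0, 2, 2, 2], [1, 0, 0, 2, 1, 0, 2, 0, 1], [1, 0, 0, 2, 0, 1, 2, 2, 0], [1, 0, 0, 2, 2, 0, 2, 1, 2]]

def rowAt (i : Fin 52) : ℕ := rowsList.getD i.val 0

def adjB (i j : Fin 52) : Bool := (rowAt i).testBit j.val

def twoB (i j : Fin 52) : Bool := (rowAt i &&& rowAt j) != 0

def orderAt (k : Fin 52) : Fin 52 := orderList.getD k.val 0

theorem rowAt_lt : ∀ i, rowAt i < 2 ^ 52 := by decide +kernel

theorem adjB_symm : ∀ i j, adjB i j = adjB j i := by decide +kernel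

theorem twoB_iff (i j : Fin 52) : twoB i j = true ↔ ∃ k, adjB i k = true ∧ adjB k j = true := by
  rw [twoB, bne_iff_ne]
  constructor
  · intro h
    obtain ⟨n, hn⟩ : ∃ n, (rowAt i &&& rowAt j).testBit n = true := by
      by_contra hall
      push Not at hall
      exact h (Nat.eq_of_testBit_eq fun n => by simpa using hall n)
    rw [Nat.testBit_and, Bool.and_eq_true] at hn
    have hlt : n < 52 := by
      by_contra hge
      rw [Nat.testBit_lt_two_pow ((rowAt_lt i).trans_le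
        (Nat.pow_le_pow_right (by norm_num) (by omega)))] at hn
      simp at hn
    exact ⟨⟨n, hlt⟩, hn.1, by rw [adjB_symm]; exact hn.2⟩
  · rintro ⟨k, h1, h2⟩ h0
    rw [adjB_symm] at h2
    have := congrArg (fun t => t.testBit k.val) h0
    simp only [Nat.testBit_and, Nat.zero_testBit] at this
    rw [show (rowAt i).testBit k.val = true from h1, show (rowAt j).testBit k.val = true from h2] at this
    simp at this

/-- The automorphisms of the flag graph. -/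
def autGraph : Subgroup (Equiv.Perm (Fin 52)) where
  carrier := {σ | ∀ i j, adjB (σ i) (σ j) = adjB i j}
  one_mem' _ _ := rfl
  mul_mem' {σ τ} hσ hτ i j := (hσ (τ i) (τ j)).trans (hτ i j)
  inv_mem' {σ} hσ i j := by
    rw [← hσ (σ⁻¹ i) (σ⁻¹ j)]
    simp

theorem twoB_map {σ : Equiv.Perm (Fin 52)} (hσ : σ ∈ autGraph) (i j : Fin 52) :
    twoB (σ i) (σ j) = twoB i j := by
  rw [Bool.eq_iff_iff, twoB_iff, twoB_iff]
  constructor
  · rintro ⟨k, h1, h2⟩
    obtain ⟨k, rfl⟩ := σ.surjective k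
    rw [hσ] at h1 h2
    exact ⟨k, h1, h2⟩
  · rintro ⟨k, h1, h2⟩
    exact ⟨σ k, by rw [hσ]; exact h1, by rw [hσ]; exact h2⟩

theorem order_determines : ∀ k : Fin 52, 6 ≤ k.val → ∀ w : Fin 52,
    (∀ m : Fin 52, m.val < k.val → adjB w (orderAt m) = adjB (orderAt k) (orderAt m) ∧
      twoB w (orderAt m) = twoB (orderAt k) (orderAt m)) →
    w = orderAt k ∨ ∃ m : Fin 52, m.val < k.val ∧ w = orderAt m := by
  decide +kernel

theorem order_surjective : ∀ v : Fin 52, ∃ k, orderAt k = v := by decide +kernel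

theorem order_injective : ∀ j k : Fin 52, orderAt j = orderAt k → j = k := by decide +kernel

/-- An automorphism fixing the six base flags is trivial. -/
theorem eq_one_of_fix {σ : Equiv.Perm (Fin 52)} (hσ : σ ∈ autGraph)
    (h : ∀ m : Fin 52, m.val < 6 → σ (orderAt m) = orderAt m) : σ = 1 := by
  have key : ∀ n : ℕ, ∀ m : Fin 52, m.val < n → σ (orderAt m) = orderAt m := by
    intro n
    induction n with
    | zero => intro m hm; omega
    | succ n ih =>
      intro m hm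
      rcases Nat.lt_or_ge m.val n with hlt | hge
      · exact ih m hlt
      rcases Nat.lt_or_ge m.val 6 with h6 | h6
      · exact h m h6
      rcases order_determines m h6 (σ (orderAt m)) (fun l hl => by
        have hl' := ih l (by omega)
        constructor
        · conv_lhs => rw [← hl']
          rw [hσ]
        · conv_lhs => rw [← hl']
          rw [twoB_map hσ]) with h1 | ⟨l, hl, h1⟩
      · exact h1
      · rw [← ih l (by omega)] at h1
        have := order_injective _ _ (σ.injective h1)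
        subst this
        omega
  refine Equiv.ext fun v => ?_
  obtain ⟨k, rfl⟩ := order_surjective v
  exact key 52 k k.2

/-- Possible continuations of a path without shortcuts. -/
def nextSet : List (Fin 52) → Finset (Fin 52)
  | y :: x :: _ => Finset.univ.filter fun w => adjB y w && !adjB x w && decide (w ≠ x)
  | [y] => Finset.univ.filter fun w => adjB y w
  | [] => Finset.univ

/-- Paths without shortcuts with a given number of vertices, latest first. -/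
def paths : ℕ → Finset (List (Fin 52))
  | 0 => {[]}
  | n + 1 => (paths n).biUnion fun l => (nextSet l).image fun w => w :: l

theorem card_step {n b : ℕ} (hb : ∀ l ∈ paths n, (nextSet l).card ≤ b) :
    (paths (n + 1)).card ≤ (paths n).card * b :=
  Finset.card_biUnion_le_card_mul _ _ _ fun l hl => Finset.card_image_le.trans (hb l hl)

theorem next_one : ∀ y : Fin 52, (Finset.univ.filter fun w => adjB y w).card ≤ 6 := by
  decide +kernel

theorem next_two : ∀ x y : Fin 52, adjB x y = true →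
    (Finset.univ.filter fun w => adjB y w && !adjB x w && decide (w ≠ x)).card ≤ 3 := by
  decide +kernel

theorem head_adj : ∀ n, ∀ l ∈ paths (n + 2), ∃ y x t, l = y :: x :: t ∧ adjB x y = true := by
  intro n l hl
  rw [paths, Finset.mem_biUnion] at hl
  obtain ⟨l', hl', h⟩ := hl
  rw [Finset.mem_image] at h
  obtain ⟨w, hw, rfl⟩ := h
  rw [paths, Finset.mem_biUnion] at hl'
  obtain ⟨l'', -, h⟩ := hl'
  rw [Finset.mem_image] at h
  obtain ⟨y, -, rfl⟩ := h
  refine ⟨w, y, l'', rfl, ?_⟩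
  cases l'' <;> simp only [nextSet, Finset.mem_filter, Bool.and_eq_true] at hw
  · exact hw.2
  · exact hw.2.1.1

theorem paths_zero : paths 0 = {[]} := rfl

theorem mem_paths_succ {n : ℕ} {l : List (Fin 52)} :
    l ∈ paths (n + 1) ↔ ∃ l' ∈ paths n, ∃ w ∈ nextSet l', w :: l' = l := by
  rw [paths, Finset.mem_biUnion]
  simp only [Finset.mem_image]

attribute [local irreducible] paths

theorem next_bound {n : ℕ} : ∀ l ∈ paths (n + 2), (nextSet l).card ≤ 3 := fun l hl => by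
  obtain ⟨y, x, t, rfl, ha⟩ := head_adj n l hl
  exact next_two x y ha

theorem card_paths_one : (paths 1).card ≤ 52 := by
  refine (card_step (n := 0) (b := 52) fun l _ => (Finset.card_le_univ _).trans
    (Fintype.card_fin 52).le).trans ?_
  rw [paths_zero, Finset.card_singleton, one_mul]

theorem card_paths_two : (paths 2).card ≤ (paths 1).card * 6 := by
  refine card_step (n := 1) (b := 6) fun l hl => ?_
  rw [mem_paths_succ] at hl
  obtain ⟨_, h0, y, -, rfl⟩ := hl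
  rw [paths_zero, Finset.mem_singleton] at h0
  subst h0
  exact next_one y

theorem bound_six (g : ℕ → ℕ) (h1 : g 1 ≤ 52) (h2 : g 2 ≤ g 1 * 6)
    (h : ∀ n, g (n + 2 + 1) ≤ g (n + 2) * 3) : g 6 ≤ 25272 := by
  have a3 : g 3 ≤ g 2 * 3 := h 0
  have a4 : g 4 ≤ g 3 * 3 := h 1
  have a5 : g 5 ≤ g 4 * 3 := h 2
  have a6 : g 6 ≤ g 5 * 3 := h 3
  omega

theorem card_paths : (paths 6).card ≤ 25272 :=
  bound_six (fun n => (paths n).card) card_paths_one card_paths_two fun _ => card_step next_bound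

theorem base_path : adjB (orderAt 0) (orderAt 1) = true ∧
    ∀ k : Fin 52, 2 ≤ k.val → k.val < 6 → ∀ i j : Fin 52, i.val + 2 = k.val → j.val + 1 = k.val →
      adjB (orderAt j) (orderAt k) = true ∧ adjB (orderAt i) (orderAt k) = false ∧
        orderAt k ≠ orderAt i := by
  decide +kernel

theorem card_autGraph : Nat.card autGraph ≤ 25272 := by
  classical
  let img : autGraph → List (Fin 52) := fun σ =>
    [(σ : Equiv.Perm (Fin 52)) (orderAt 5), (σ : Equiv.Perm (Fin 52)) (orderAt 4),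
      (σ : Equiv.Perm (Fin 52)) (orderAt 3), (σ : Equiv.Perm (Fin 52)) (orderAt 2),
      (σ : Equiv.Perm (Fin 52)) (orderAt 1), (σ : Equiv.Perm (Fin 52)) (orderAt 0)]
  have hmem : ∀ σ, img σ ∈ paths 6 := by
    intro σ
    set s := (σ : Equiv.Perm (Fin 52))
    obtain ⟨h0, hk⟩ := base_path
    have step : ∀ (n : ℕ) (w : Fin 52) (l : List (Fin 52)), l ∈ paths n → w ∈ nextSet l →
        w :: l ∈ paths (n + 1) := fun n w l hl hw => by
      rw [mem_paths_succ]
      exact ⟨l, hl, w, hw, rfl⟩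
    have hnext : ∀ (i j k : Fin 52) (t : List (Fin 52)), 2 ≤ k.val → k.val < 6 → i.val + 2 = k.val →
        j.val + 1 = k.val → s (orderAt k) ∈ nextSet (s (orderAt j) :: s (orderAt i) :: t) := by
      intro i j k t h1 h2 hi hj
      obtain ⟨a, b, c⟩ := hk k h1 h2 i j hi hj
      simp only [nextSet, Finset.mem_filter, Finset.mem_univ, true_and, Bool.and_eq_true,
        Bool.not_eq_eq_eq_not, Bool.not_true, decide_eq_true_eq]
      exact ⟨⟨(σ.2 _ _).trans a, (σ.2 _ _).trans b⟩, fun h => c (s.injective h)⟩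
    refine step 5 _ _ (step 4 _ _ (step 3 _ _ (step 2 _ _ (step 1 _ _ (step 0 _ _ ?_ ?_) ?_)
      (hnext 0 1 2 _ (by decide) (by decide) rfl rfl))
      (hnext 1 2 3 _ (by decide) (by decide) rfl rfl))
      (hnext 2 3 4 _ (by decide) (by decide) rfl rfl))
      (hnext 3 4 5 _ (by decide) (by decide) rfl rfl)
    · rw [paths_zero]; simp
    · simp [nextSet]
    · simp only [nextSet, Finset.mem_filter, Finset.mem_univ, true_and]
      exact (σ.2 _ _).trans h0
  refine le_trans (Nat.card_le_card_of_injective (β := {l // l ∈ paths 6})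
    (fun σ => ⟨img σ, hmem σ⟩) fun σ τ h => ?_) ?_
  · have h' := congrArg Subtype.val h
    simp only [img, List.cons.injEq, and_true] at h'
    obtain ⟨a5, a4, a3, a2, a1, a0⟩ := h'
    refine Subtype.ext (inv_mul_eq_one.1 (eq_one_of_fix
      (mul_mem (inv_mem σ.2) τ.2) fun m hm => ?_))
    rw [Equiv.Perm.mul_apply, Equiv.Perm.inv_def, Equiv.symm_apply_eq]
    have : m = 0 ∨ m = 1 ∨ m = 2 ∨ m = 3 ∨ m = 4 ∨ m = 5 := by
      simp only [Fin.ext_iff]; omega
    rcases this with rfl | rfl | rfl | rfl | rfl | rfl <;> symm <;> assumption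
  · rw [Nat.card_eq_fintype_card, Fintype.card_coe]
    exact card_paths

end CfsgLib.CommGraph.L33
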