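import Cfsg.Agent.CommGraph.Basic
import Cfsg.Agent.CommGraph.L33Flags
import Cfsg.Agent.Classical.LinearOrder
import Cfsg.Agent.Classical.Transvections
import Mathlib

/-!
Transvections of `SL₃(3)` and groups with the same commuting graph.
-/

set_option autoImplicit false

namespace CfsgLib.CommGraph.L33

open Matrix

/-- The group `SL₃(3)`. -/
abbrev M := Matrix.SpecialLinearGroup (Fin 3) (ZMod 3)

theorem card_M : Nat.card M = 5616 := by
  have h := CfsgLib.Linear.card_SL_mul (F := ZMod 3) (q := 3) (ZMod.card 3) 3 (by norm_num)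
  rw [Fin.prod_univ_three, show ((0 : Fin 3) : ℕ) = 0 from rfl, show ((1 : Fin 3) : ℕ) = 1 from rfl,
    show ((2 : Fin 3) : ℕ) = 2 from rfl] at h
  exact Nat.eq_of_mul_eq_mul_left (show 0 < 3 - 1 by norm_num) (h.trans (by norm_num))

theorem center_M : Subgroup.center M = ⊥ := by
  refine Subgroup.card_eq_one.1 ?_
  rw [CfsgLib.Linear.card_center_SL, Fintype.card_fin, Nat.card_eq_fintype_card, ZMod.card]
  rfl

/-- `PSL₃(3)` is `SL₃(3)`. -/
noncomputable def pslEquiv : Matrix.ProjectiveSpecialLinearGroup (Fin 3) (ZMod 3) ≃* M :=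
  (QuotientGroup.quotientMulEquivOfEq center_M).trans QuotientGroup.quotientBot

theorem isSimple_M : IsSimpleGroup M := by
  haveI := CfsgLib.Linear.isSimpleGroup_PSL (ι := Fin 3) (F := ZMod 3) (Or.inl (by simp))
  exact pslEquiv.symm.isSimpleGroup

theorem index_bound (S : Subgroup M) (hS : S ≠ ⊤) : 13 ≤ S.index := by
  haveI := isSimple_M
  by_contra hlt
  have hker : (MulAction.toPermHom M (M ⧸ S)).ker = ⊥ := by
    rw [← Subgroup.normalCore_eq_ker]
    refine (Subgroup.Normal.eq_bot_or_eq_top S.normalCore_normal).resolve_right fun h => hS ?_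
    exact top_le_iff.1 (h ▸ S.normalCore_le)
  have hd := Subgroup.card_dvd_of_injective _ ((MonoidHom.ker_eq_bot_iff _).1 hker)
  rw [Nat.card_perm, card_M] at hd
  have h13 : 13 ∣ S.index.factorial := (show 13 ∣ 5616 by norm_num).trans hd
  exact hlt ((Nat.Prime.dvd_factorial (by norm_num)).1 h13)

theorem index_of_le_fifteen (S : Subgroup M) (hS : S ≠ ⊤) (h : S.index ≤ 15) :
    Nat.card S = 432 := by
  have h1 := index_bound S hS
  have hd : S.index ∣ 5616 := card_M ▸ S.index_dvd_card
  have hc := S.card_mul_index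
  rw [card_M] at hc
  interval_cases hi : S.index
  all_goals first
    | omega
    | (exfalso; revert hd; norm_num)

/-- Triples to vectors. -/
def ofTriple (p : ℕ × ℕ × ℕ) : Fin 3 → ZMod 3 := ![(p.1 : ZMod 3), (p.2.1 : ZMod 3), (p.2.2 : ZMod 3)]

def flagAt (i : Fin 52) : (ℕ × ℕ × ℕ) × (ℕ × ℕ × ℕ) :=
  flagList.getD i.val ((0, 0, 0), (0, 0, 0))

/-- The nilpotent map attached to a flag. -/
def nil (i : Fin 52) : Matrix (Fin 3) (Fin 3) (ZMod 3) :=
  Matrix.vecMulVec (ofTriple (flagAt i).1) (ofTriple (flagAt i).2)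

theorem det_one_add_nil : ∀ i, (1 + nil i).det = 1 := by
  simp only [Matrix.det_fin_three]
  decide +kernel

/-- The transvection attached to a flag. -/
def tv (i : Fin 52) : M := ⟨1 + nil i, det_one_add_nil i⟩

theorem tv_ne_tv_inv_aux : ∀ i, 1 + nil i ≠ 1 - nil i := by decide +kernel

theorem tv_ne_one : ∀ i, tv i ≠ 1 := by decide +kernel

theorem nil_sq : ∀ i, nil i * nil i = 0 := by decide +kernel

theorem coe_inv_tv (i : Fin 52) :
    ((tv i)⁻¹ : M).1 = 1 - nil i := by
  have h : (1 + nil i) * (1 - nil i) = 1 := by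
    have := nil_sq i
    noncomm_ring [this]
  let y : M := ⟨1 - nil i, by
    have := congrArg Matrix.det h
    rwa [Matrix.det_mul, det_one_add_nil, one_mul, Matrix.det_one] at this⟩
  rw [show (tv i)⁻¹ = y from inv_eq_of_mul_eq_one_right (Subtype.ext h)]

theorem ext_val {x y : M} : x = y ↔ x.1 = y.1 := ⟨congrArg Subtype.val, Subtype.ext⟩

theorem tv_ne_tv_inv (i : Fin 52) : tv i ≠ (tv i)⁻¹ := fun h =>
  tv_ne_tv_inv_aux i ((congrArg Subtype.val h).trans (coe_inv_tv i))

/-- Commutation of two flag transvections. -/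
def commB (i j : Fin 52) : Bool := decide (nil i * nil j = nil j * nil i)

theorem commute_tv_iff (i j : Fin 52) : Commute (tv i) (tv j) ↔ commB i j = true := by
  rw [commB, decide_eq_true_iff, commute_iff_eq, ext_val]
  show (1 + nil i) * (1 + nil j) = (1 + nil j) * (1 + nil i) ↔ _
  simp only [add_mul, mul_add, one_mul, mul_one]
  constructor
  · intro h
    have := sub_eq_zero.2 h
    exact sub_eq_zero.1 (by rw [← this]; abel)
  · intro h
    rw [h]; abel

theorem commB_eq_adjB : ∀ i j, i ≠ j → commB i j = adjB i j := by decide +kernel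

theorem adjB_irrefl : ∀ i, adjB i i = false := by decide +kernel

theorem twin_free : ∀ i j, (∀ k, commB k i = commB k j) → i = j := by decide +kernel

/-- `x` has the same centraliser as the transvection of the flag `i`. -/
def Lab (x : M) (i : Fin 52) : Prop := ∀ z, Commute z x ↔ Commute z (tv i)

theorem Lab.unique {x : M} {i j : Fin 52} (hi : Lab x i) (hj : Lab x j) : i = j :=
  twin_free i j fun k => by
    rw [Bool.eq_iff_iff, ← commute_tv_iff, ← commute_tv_iff]
    exact (hi (tv k)).symm.trans (hj (tv k))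

theorem lab_tv (i : Fin 52) : Lab (tv i) i := fun _ => Iff.rfl

theorem lab_of_pm {x : M} {i : Fin 52} (h : x = tv i ∨ x = (tv i)⁻¹) : Lab x i := by
  rcases h with rfl | rfl
  · exact lab_tv i
  · exact fun z => Commute.inv_right_iff

/-- The matrices used for transitivity. -/
def conjMat (i : Fin 52) : Matrix (Fin 3) (Fin 3) (ZMod 3) :=
  Matrix.of fun a b => (((conjList.getD i.val []).getD (3 * a.val + b.val) 0 : ℕ) : ZMod 3)

theorem det_conjMat : ∀ i, (conjMat i).det = 1 := by
  simp only [Matrix.det_fin_three]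
  decide +kernel

/-- Elements moving the base flag to each flag. -/
def conjEl (i : Fin 52) : M := ⟨conjMat i, det_conjMat i⟩

theorem conjMat_mul : ∀ i, conjMat i * nil 16 = nil i * conjMat i := by decide +kernel

theorem conj_tv (i : Fin 52) : conjEl i * tv 16 * (conjEl i)⁻¹ = tv i := by
  rw [mul_inv_eq_iff_eq_mul, ext_val]
  show conjMat i * (1 + nil 16) = (1 + nil i) * conjMat i
  rw [mul_add, add_mul, conjMat_mul, one_mul, mul_one]

/-- The root element `1 + E₀₁`. -/
def rootA : M := ⟨!![1, 1, 0; 0, 1, 0; 0, 0, 1], by simp [Matrix.det_fin_three]⟩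

/-- The root element `1 + E₁₂`. -/
def rootB : M := ⟨!![1, 0, 0; 0, 1, 1; 0, 0, 1], by simp [Matrix.det_fin_three]⟩

/-- A general upper unitriangular element. -/
def uni (p : ZMod 3 × ZMod 3 × ZMod 3) : M :=
  ⟨!![1, p.1, p.2.2; 0, 1, p.2.1; 0, 0, 1], by simp [Matrix.det_fin_three]⟩

theorem uni_mul (p q : ZMod 3 × ZMod 3 × ZMod 3) :
    uni p * uni q = uni (p.1 + q.1, p.2.1 + q.2.1, p.2.2 + q.2.2 + p.1 * q.2.1) := by
  apply Subtype.ext
  show !![1, p.1, p.2.2; 0, 1, p.2.1; 0, 0, 1] * !![1, q.1, q.2.2; 0, 1, q.2.1; 0, 0, 1] = _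
  ext a b
  fin_cases a <;> fin_cases b <;> simp [uni, Matrix.mul_apply, Fin.sum_univ_three] <;> ring

/-- The upper unitriangular group. -/
def U : Subgroup M where
  carrier := Set.range uni
  one_mem' := ⟨(0, 0, 0), by apply Subtype.ext; ext a b; fin_cases a <;> fin_cases b <;> simp [uni]⟩
  mul_mem' := by rintro _ _ ⟨p, rfl⟩ ⟨q, rfl⟩; exact ⟨_, (uni_mul p q).symm⟩
  inv_mem' := by
    rintro _ ⟨p, rfl⟩
    refine ⟨(-p.1, -p.2.1, -p.2.2 + p.1 * p.2.1), (inv_eq_of_mul_eq_one_right ?_).symm⟩
    rw [uni_mul]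
    apply Subtype.ext
    ext a b
    fin_cases a <;> fin_cases b <;> simp [uni] <;> ring

theorem card_U : Nat.card U = 27 := by
  have h : Function.Injective uni := fun p q h => by
    have h' := fun a b => congrArg (fun x : M => x.1 a b) h
    exact Prod.ext (by simpa [uni] using h' 0 1)
      (Prod.ext (by simpa [uni] using h' 1 2) (by simpa [uni] using h' 0 2))
  have : Nat.card (Set.range uni) = 27 := by
    rw [Nat.card_range_of_injective h]
    simp [Nat.card_eq_fintype_card]
  exact this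

theorem rootA_mem : rootA ∈ U := ⟨(1, 0, 0), rfl⟩

theorem rootB_mem : rootB ∈ U := ⟨(0, 1, 0), rfl⟩

theorem tv16_eq : tv 16 = uni (0, 0, 1) := by decide +kernel

theorem U_le_centralizer : U ≤ Subgroup.centralizer ({tv 16} : Set M) := by
  rintro _ ⟨p, rfl⟩
  rw [Subgroup.mem_centralizer_singleton_iff, tv16_eq, uni_mul, uni_mul]
  simp [add_comm, add_left_comm]

/-- Entries of an element commuting with both root elements. -/
theorem centralizer_roots {y : M} (ha : Commute y rootA) (hb : Commute y rootB) :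
    ∃ c, y.1 = !![1, 0, c; 0, 1, 0; 0, 0, 1] := by
  have hA : y.1 * !![1, 1, 0; 0, 1, 0; 0, 0, 1] = !![1, 1, 0; 0, 1, 0; 0, 0, 1] * y.1 :=
    congrArg Subtype.val ha.eq
  have hB : y.1 * !![1, 0, 0; 0, 1, 1; 0, 0, 1] = !![1, 0, 0; 0, 1, 1; 0, 0, 1] * y.1 :=
    congrArg Subtype.val hb.eq
  have a01 := congrFun (congrFun hA 0) 1
  have a11 := congrFun (congrFun hA 1) 1
  have a21 := congrFun (congrFun hA 2) 1
  have a02 := congrFun (congrFun hA 0) 2
  have b02 := congrFun (congrFun hB 0) 2
  have b12 := congrFun (congrFun hB 1) 2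
  have b22 := congrFun (congrFun hB 2) 2
  have b11 := congrFun (congrFun hB 1) 1
  simp [Matrix.mul_apply, Fin.sum_univ_three] at a01 a11 a21 a02 b02 b12 b22 b11
  have hdet := y.2
  rw [Matrix.det_fin_three] at hdet
  have h11 : y.1 1 1 = 1 := by
    have e00 : y.1 0 0 = y.1 1 1 := by linear_combination a01
    have e22 : y.1 2 2 = y.1 1 1 := by linear_combination -b12
    rw [e00, e22, a11, a21, a02, b02, b11] at hdet
    revert hdet
    generalize y.1 1 1 = t
    generalize y.1 0 2 = s
    revert t s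
    decide
  refine ⟨y.1 0 2, ?_⟩
  ext a b
  fin_cases a <;> fin_cases b <;> simp [h11] <;>
    first
      | assumption
      | linear_combination a01 + h11
      | linear_combination -b12 + h11

theorem flags_cover : ∀ a b c d e f : ZMod 3, (a ≠ 0 ∨ b ≠ 0 ∨ c ≠ 0) → (d ≠ 0 ∨ e ≠ 0 ∨ f ≠ 0) →
    a * d + b * e + c * f = 0 → ∃ i, Matrix.vecMulVec ![a, b, c] ![d, e, f] = nil i ∨
      Matrix.vecMulVec ![a, b, c] ![d, e, f] = -nil i := by
  decide +kernel

theorem centralizes_U_eq {y : M} (hy : ∀ u ∈ U, Commute y u) :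
    y = 1 ∨ y = tv 16 ∨ y = (tv 16)⁻¹ := by
  obtain ⟨c, hc⟩ := centralizer_roots (hy _ rootA_mem) (hy _ rootB_mem)
  have : ∀ c : ZMod 3, !![1, 0, c; 0, 1, 0; 0, 0, 1] = (1 : Matrix (Fin 3) (Fin 3) (ZMod 3)) ∨
      !![1, 0, c; 0, 1, 0; 0, 0, 1] = 1 + nil 16 ∨
      !![1, 0, c; 0, 1, 0; 0, 0, 1] = 1 - nil 16 := by decide +kernel
  rcases this c with h | h | h
  · exact Or.inl (Subtype.ext (hc.trans h))
  · exact Or.inr (Or.inl (Subtype.ext (hc.trans h)))
  · exact Or.inr (Or.inr (Subtype.ext (hc.trans (h.trans (coe_inv_tv 16).symm))))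

theorem conj_tv16_pm (g : M) :
    ∃ i, g⁻¹ * tv 16 * g = tv i ∨ g⁻¹ * tv 16 * g = (tv i)⁻¹ := by
  set A : Matrix (Fin 3) (Fin 3) (ZMod 3) := ((g⁻¹ : M) : M).1 with hA
  set B : Matrix (Fin 3) (Fin 3) (ZMod 3) := g.1 with hB
  have hAB : A * B = 1 := congrArg Subtype.val (inv_mul_cancel g)
  have hBA : B * A = 1 := congrArg Subtype.val (mul_inv_cancel g)
  have hv : ∀ a, A a 0 = A.mulVec (ofTriple (flagAt 16).1) a := fun a => by
    rw [show ofTriple (flagAt 16).1 = ![1, 0, 0] by decide +kernel]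
    simp [Matrix.mulVec, dotProduct, Fin.sum_univ_three]
  have hw : ∀ b, B 2 b = Matrix.vecMul (ofTriple (flagAt 16).2) B b := fun b => by
    rw [show ofTriple (flagAt 16).2 = ![0, 0, 1] by decide +kernel]
    simp [Matrix.vecMul, dotProduct, Fin.sum_univ_three]
  have hdot : A 0 0 * B 2 0 + A 1 0 * B 2 1 + A 2 0 * B 2 2 = 0 := by
    have := congrFun (congrFun hBA 2) 0
    simp [Matrix.mul_apply, Fin.sum_univ_three] at this
    linear_combination this
  have hA0 : A 0 0 ≠ 0 ∨ A 1 0 ≠ 0 ∨ A 2 0 ≠ 0 := by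
    by_contra h
    push Not at h
    have := congrFun (congrFun hBA 0) 0
    simp [Matrix.mul_apply, Fin.sum_univ_three, h] at this
  have hB2 : B 2 0 ≠ 0 ∨ B 2 1 ≠ 0 ∨ B 2 2 ≠ 0 := by
    by_contra h
    push Not at h
    have := congrFun (congrFun hBA 2) 2
    simp [Matrix.mul_apply, Fin.sum_univ_three, h] at this
  obtain ⟨i, hi⟩ := flags_cover _ _ _ _ _ _ hA0 hB2 hdot
  have e : A * nil 16 * B =
      Matrix.vecMulVec ![A 0 0, A 1 0, A 2 0] ![B 2 0, B 2 1, B 2 2] := by
    rw [nil, Matrix.mul_vecMulVec, Matrix.vecMulVec_mul]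
    congr 1
    · ext a; rw [← hv]; fin_cases a <;> rfl
    · ext b; rw [← hw]; fin_cases b <;> rfl
  have e2 : (g⁻¹ * tv 16 * g).1 = 1 + A * nil 16 * B := by
    show A * (1 + nil 16) * B = _
    rw [mul_add, mul_one, add_mul, hAB]
  refine ⟨i, hi.imp (fun h => Subtype.ext ?_) (fun h => Subtype.ext ?_)⟩
  · rw [e2, e, h]; rfl
  · rw [e2, e, h, coe_inv_tv, sub_eq_add_neg]

theorem transvection_of_card {x : M} (hx : x ≠ 1)
    (h : 27 ∣ Nat.card (Subgroup.centralizer ({x} : Set M))) :
    ∃ i, x = tv i ∨ x = (tv i)⁻¹ := by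
  haveI : Fact (Nat.Prime 3) := ⟨by norm_num⟩
  obtain ⟨P, hP⟩ := Sylow.exists_subgroup_card_pow_prime 3 (n := 3)
    (G := Subgroup.centralizer ({x} : Set M)) (by simpa using h)
  have hf : 3 ^ (Nat.card M).factorization 3 = 27 := by
    rw [card_M, show (5616 : ℕ) = 3 ^ 3 * 208 by norm_num,
      Nat.factorization_mul_apply_of_coprime (by norm_num),
      Nat.Prime.factorization_pow (by norm_num), Finsupp.single_eq_same,
      Nat.factorization_eq_zero_of_not_dvd (by norm_num)]
    norm_num
  let P1 : Sylow 3 M := Sylow.ofCard (P.map (Subgroup.subtype _))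
    (by rw [Subgroup.card_map_of_injective (Subgroup.subtype_injective _), hP, hf]; norm_num)
  let P2 : Sylow 3 M := Sylow.ofCard U (by rw [card_U, hf])
  obtain ⟨g, hg⟩ := MulAction.exists_smul_eq M P1 P2
  have hy : ∀ u ∈ U, Commute (g * x * g⁻¹) u := by
    intro u hu
    have hu' : u ∈ ((g • P1 : Sylow 3 M) : Subgroup M) := by rw [hg]; exact hu
    rw [Sylow.coe_subgroup_smul, Subgroup.mem_pointwise_smul_iff_inv_smul_mem] at hu'
    obtain ⟨v, -, hv⟩ := hu'
    have hv' : Commute x (v : M) := (Subgroup.mem_centralizer_singleton_iff.1 v.2).symm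
    have hv2 : g⁻¹ * u * g = (v : M) := by
      simpa using hv.symm
    have : u = g * v * g⁻¹ := by rw [← hv2]; group
    rw [this]
    exact (Commute.conj_iff g).2 hv'
  have hx' : x = g⁻¹ * (g * x * g⁻¹) * g := by group
  rcases centralizes_U_eq hy with h1 | h1 | h1 <;> rw [h1] at hx'
  · exact absurd (by simpa using hx') hx
  · rw [hx']; exact conj_tv16_pm g
  · obtain ⟨i, hi⟩ := conj_tv16_pm g
    refine ⟨i, ?_⟩
    have hx2 : x = (g⁻¹ * tv 16 * g)⁻¹ := by rw [hx']; group
    rcases hi with hi | hi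
    · exact Or.inr (by rw [hx2, hi])
    · exact Or.inl (by rw [hx2, hi, inv_inv])

theorem dvd_card_centralizer_tv (i : Fin 52) :
    27 ∣ Nat.card (Subgroup.centralizer ({tv i} : Set M)) := by
  have hle : U.map (MulAut.conj (conjEl i)).toMonoidHom ≤
      Subgroup.centralizer ({tv i} : Set M) := by
    rintro _ ⟨u, hu, rfl⟩
    rw [Subgroup.mem_centralizer_singleton_iff, ← conj_tv i]
    have := U_le_centralizer hu
    rw [Subgroup.mem_centralizer_singleton_iff] at this
    exact ((Commute.conj_iff (conjEl i)).2 this).eq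
  have := Subgroup.card_dvd_of_le hle
  rwa [Subgroup.card_map_of_injective (MulAut.conj (conjEl i)).injective, card_U] at this

/-! ### The action on flags -/

section Perm

variable {σ τ : Equiv.Perm M}

theorem exists_lab_image (hσ : σ ∈ commPerm M) (i : Fin 52) :
    ∃ j, σ (tv i) = tv j ∨ σ (tv i) = (tv j)⁻¹ := by
  refine transvection_of_card (fun h => tv_ne_one i (σ.injective (h.trans hσ.1.symm))) ?_
  rw [card_centralizer_map σ hσ.2]
  exact dvd_card_centralizer_tv i

/-- The induced map on flags. -/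
noncomputable def flagMap (σ : commPerm M) (i : Fin 52) : Fin 52 :=
  Classical.choose (exists_lab_image σ.2 i)

theorem flagMap_spec (σ : commPerm M) (i : Fin 52) :
    (σ : Equiv.Perm M) (tv i) = tv (flagMap σ i) ∨
      (σ : Equiv.Perm M) (tv i) = (tv (flagMap σ i))⁻¹ :=
  Classical.choose_spec (exists_lab_image σ.2 i)

theorem lab_map (σ : commPerm M) {x : M} {i : Fin 52} (h : Lab x i) :
    Lab ((σ : Equiv.Perm M) x) (flagMap σ i) := by
  intro z
  obtain ⟨w, rfl⟩ := (σ : Equiv.Perm M).surjective z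
  rw [σ.2.2, h w, ← σ.2.2]
  exact lab_of_pm (flagMap_spec σ i) _

theorem flagMap_eq (σ : commPerm M) {i j : Fin 52} (h : Lab ((σ : Equiv.Perm M) (tv i)) j) :
    flagMap σ i = j :=
  (lab_map σ (lab_tv i)).unique h

theorem flagMap_mul (σ τ : commPerm M) (i : Fin 52) :
    flagMap (σ * τ) i = flagMap σ (flagMap τ i) :=
  flagMap_eq _ (lab_map σ (lab_map τ (lab_tv i)))

theorem flagMap_one (i : Fin 52) : flagMap 1 i = i := flagMap_eq 1 (lab_tv i)

/-- The permutation of flags. -/
noncomputable def flagPerm : commPerm M →* Equiv.Perm (Fin 52) where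
  toFun σ := ⟨flagMap σ, flagMap σ⁻¹,
    fun i => by rw [← flagMap_mul, inv_mul_cancel, flagMap_one],
    fun i => by rw [← flagMap_mul, mul_inv_cancel, flagMap_one]⟩
  map_one' := Equiv.ext flagMap_one
  map_mul' σ τ := Equiv.ext (flagMap_mul σ τ)

theorem flagPerm_mem (σ : commPerm M) : flagPerm σ ∈ autGraph := by
  intro i j
  rcases eq_or_ne i j with rfl | hij
  · rw [adjB_irrefl, adjB_irrefl]
  rw [← commB_eq_adjB i j hij, ← commB_eq_adjB _ _ ((flagPerm σ).injective.ne hij),
    Bool.eq_iff_iff, ← commute_tv_iff, ← commute_tv_iff, ← σ.2.2 (tv i) (tv j)]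
  show Commute (tv (flagMap σ i)) (tv (flagMap σ j)) ↔ _
  rw [← lab_of_pm (flagMap_spec σ j) (tv (flagMap σ i)), Commute.symm_iff,
    ← lab_of_pm (flagMap_spec σ i) ((σ : Equiv.Perm M) (tv j)), Commute.symm_iff]

/-- The action on the flag graph. -/
noncomputable def flagHom : commPerm M →* autGraph := flagPerm.codRestrict _ flagPerm_mem

end Perm

theorem pm_of_flagMap_eq (σ : commPerm M) {i : Fin 52} (h : flagMap σ i = i) :
    (σ : Equiv.Perm M) ((σ : Equiv.Perm M) (tv i)) = tv i := by
  rcases flagMap_spec σ i with h1 | h1 <;> rw [h] at h1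
  · rw [h1, h1]
  rw [h1]
  have hne : (σ : Equiv.Perm M) (tv i)⁻¹ ≠ 1 := fun e =>
    inv_ne_one.2 (tv_ne_one i) ((σ : Equiv.Perm M).injective (e.trans σ.2.1.symm))
  have hc : 27 ∣ Nat.card (Subgroup.centralizer ({(σ : Equiv.Perm M) (tv i)⁻¹} : Set M)) := by
    rw [card_centralizer_map _ σ.2.2, ← Subgroup.centralizer_closure,
      Subgroup.closure_singleton_inv, Subgroup.centralizer_closure]
    exact dvd_card_centralizer_tv i
  obtain ⟨j, hj⟩ := transvection_of_card hne hc
  have hlab := lab_map σ (x := (tv i)⁻¹) (i := i) (lab_of_pm (Or.inr rfl))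
  rw [h] at hlab
  obtain rfl : j = i := (lab_of_pm hj).unique hlab
  refine hj.resolve_right fun e => ?_
  exact (σ : Equiv.Perm M).injective.ne (fun e' => tv_ne_tv_inv j e') (h1.trans e.symm)

/-- The conjugation action of `M`. -/
def conjPerm : M →* commPerm M :=
  ((MulAut.toPerm M).comp MulAut.conj).codRestrict _ fun g =>
    ⟨map_one (MulAut.conj g), fun _ _ => Commute.conj_iff g⟩

theorem conjPerm_apply (g x : M) : (conjPerm g : Equiv.Perm M) x = g * x * g⁻¹ := rfl

theorem flagHom_conjPerm_injective : Function.Injective (flagHom.comp conjPerm) := by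
  haveI := isSimple_M
  rw [← MonoidHom.ker_eq_bot_iff]
  refine (Subgroup.Normal.eq_bot_or_eq_top (MonoidHom.normal_ker _)).resolve_right fun h => ?_
  have h0 : flagMap (conjPerm (conjEl 0)) 16 = 0 := flagMap_eq _ (by
    rw [conjPerm_apply, conj_tv]; exact lab_tv 0)
  have h1 : flagHom (conjPerm (conjEl 0)) = 1 := by
    have := MonoidHom.mem_ker.1 (h ▸ Subgroup.mem_top (conjEl 0) :
      conjEl 0 ∈ (flagHom.comp conjPerm).ker)
    exact this
  have h2 : flagMap (conjPerm (conjEl 0)) 16 = 16 :=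
    congrArg (fun π : autGraph => (π : Equiv.Perm (Fin 52)) 16) h1
  rw [h0] at h2
  exact absurd h2 (by decide)

theorem tv_flags_generic : ∀ c : ZMod 3,
    (!![1, 0, c; 0, 1, 0; 0, 0, 1] * nil 1 = nil 1 * !![1, 0, c; 0, 1, 0; 0, 0, 1]) → c = 0 := by
  decide +kernel

/-- Only `1` commutes with every transvection. -/
theorem eq_one_of_commute_all {y : M} (h : ∀ i, Commute y (tv i)) : y = 1 := by
  have hpm : ∀ x, (∃ i, x = tv i ∨ x = (tv i)⁻¹) → Commute y x := by
    rintro x ⟨i, rfl | rfl⟩
    · exact h i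
    · exact (h i).inv_right
  have hA : Commute y rootA := hpm _ (by
    have : ∀ z : M, z.1 = !![1, 1, 0; 0, 1, 0; 0, 0, 1] → ∃ i, z = tv i ∨ z = (tv i)⁻¹ := by
      intro z hz
      obtain ⟨i, hi⟩ := flags_cover 1 0 0 0 1 0 (Or.inl one_ne_zero) (Or.inr (Or.inl one_ne_zero))
        (by norm_num)
      have hm : !![(1 : ZMod 3), 1, 0; 0, 1, 0; 0, 0, 1] = 1 + Matrix.vecMulVec ![1, 0, 0] ![0, 1, 0] := by
        decide +kernel
      refine ⟨i, hi.imp (fun e => Subtype.ext ?_) (fun e => Subtype.ext ?_)⟩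
      · rw [hz, hm, e]; rfl
      · rw [hz, hm, e, coe_inv_tv, sub_eq_add_neg]
    exact this _ rfl)
  have hB : Commute y rootB := hpm _ (by
    obtain ⟨i, hi⟩ := flags_cover 0 1 0 0 0 1 (Or.inr (Or.inl one_ne_zero))
      (Or.inr (Or.inr one_ne_zero)) (by norm_num)
    have hm : !![(1 : ZMod 3), 0, 0; 0, 1, 1; 0, 0, 1] = 1 + Matrix.vecMulVec ![0, 1, 0] ![0, 0, 1] := by
      decide +kernel
    refine ⟨i, hi.imp (fun e => Subtype.ext ?_) (fun e => Subtype.ext ?_)⟩
    · show !![(1 : ZMod 3), 0, 0; 0, 1, 1; 0, 0, 1] = _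
      rw [hm, e]; rfl
    · show !![(1 : ZMod 3), 0, 0; 0, 1, 1; 0, 0, 1] = _
      rw [hm, e, coe_inv_tv, sub_eq_add_neg])
  obtain ⟨c, hc⟩ := centralizer_roots hA hB
  have h1 := congrArg Subtype.val (h 1).eq
  change y.1 * (1 + nil 1) = (1 + nil 1) * y.1 at h1
  rw [mul_add, add_mul, mul_one, one_mul] at h1
  have h0 := tv_flags_generic c (by rw [← hc]; exact add_left_cancel h1)
  apply Subtype.ext
  rw [hc, h0]
  exact (Matrix.one_fin_three).symm

theorem index_stabilizer_conjAct {G : Type*} [Group G] [Finite G] (g : G) :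
    (MulAction.stabilizer (ConjAct G) g).index = (Subgroup.centralizer ({g} : Set G)).index := by
  have h1 := (MulAction.stabilizer (ConjAct G) g).card_mul_index
  have h2 := (Subgroup.centralizer ({g} : Set G)).card_mul_index
  have hc : Nat.card (MulAction.stabilizer (ConjAct G) g) =
      Nat.card (Subgroup.centralizer ({g} : Set G)) := by
    refine Nat.card_congr (ConjAct.ofConjAct.toEquiv.subtypeEquiv fun x => ?_)
    show x • g = g ↔ ConjAct.ofConjAct x ∈ Subgroup.centralizer _
    rw [Subgroup.mem_centralizer_singleton_iff, ConjAct.smul_def, mul_inv_eq_iff_eq_mul]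
  have hG : Nat.card (ConjAct G) = Nat.card G := Nat.card_congr ConjAct.ofConjAct.toEquiv
  rw [hc, hG, ← h2] at h1
  exact Nat.eq_of_mul_eq_mul_left Nat.card_pos h1

/-- A group with the commuting graph of `SL₃(3)` is `SL₃(3)`. -/
theorem nonempty_mulEquiv {H : Type*} [Group H] [Finite H] (e : H ≃ M)
    (he : ∀ a b, Commute (e a) (e b) ↔ Commute a b) (he1 : e 1 = 1) : Nonempty (H ≃* M) := by
  have cardH : Nat.card H = 5616 := (Nat.card_congr e).trans card_M
  set α := flagHom.comp (transportConj e he he1) with hα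
  have hsq : ∀ h ∈ α.ker, h * h = 1 := by
    intro h hh
    have hfix : ∀ i, Commute (h * h) (e.symm (tv i)) := by
      intro i
      have hi : flagMap (transportConj e he he1 h) i = i :=
        congrArg (fun π : autGraph => (π : Equiv.Perm (Fin 52)) i) (MonoidHom.mem_ker.1 hh)
      have h2 := pm_of_flagMap_eq _ hi
      rw [transportConj_apply, transportConj_apply, e.symm_apply_apply] at h2
      have h3 := congrArg e.symm h2
      rw [e.symm_apply_apply] at h3
      rw [commute_iff_eq]
      calc h * h * e.symm (tv i) = h * (h * e.symm (tv i) * h⁻¹) * h⁻¹ * (h * h) := by group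
        _ = _ := by rw [h3]
    have h4 : e (h * h) = 1 := eq_one_of_commute_all fun i => by
      have := (he _ _).2 (hfix i)
      rwa [e.apply_symm_apply] at this
    exact e.injective (h4.trans he1.symm)
  have hK : α.ker = ⊥ := by
    rw [eq_bot_iff]
    intro h hh
    rw [Subgroup.mem_bot]
    by_contra h1
    haveI : Fact (Nat.Prime 2) := ⟨Nat.prime_two⟩
    have hp : IsPGroup 2 α.ker := fun k => ⟨1, Subtype.ext (by
      rw [SubgroupClass.coe_pow, pow_one, pow_two]; exact hsq _ k.2)⟩
    obtain ⟨n, hn⟩ := hp.exists_card_eq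
    have hn16 : Nat.card α.ker ≤ 16 := by
      have hd : 2 ^ n ∣ 5616 := hn ▸ cardH ▸ α.ker.card_subgroup_dvd_card
      have : n ≤ 4 := by
        by_contra hge
        have : (32 : ℕ) ∣ 5616 := (pow_dvd_pow 2 (by omega : 5 ≤ n)).trans hd
        norm_num at this
      rw [hn]
      exact (Nat.pow_le_pow_right (by norm_num) this).trans (by norm_num)
    have horb : Nat.card (MulAction.orbit (ConjAct H) h) < Nat.card α.ker := by
      rw [Nat.card_coe_set_eq]
      calc (MulAction.orbit (ConjAct H) h).ncard < (α.ker : Set H).ncard := by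
            refine Set.ncard_lt_ncard ?_ (Set.toFinite _)
            rw [Set.ssubset_iff_of_subset]
            · refine ⟨1, one_mem _, fun ⟨g, hg⟩ => h1 ?_⟩
              change g • h = 1 at hg
              rw [ConjAct.smul_def] at hg
              exact conj_eq_one_iff.1 hg
            · rintro _ ⟨g, rfl⟩
              show g • h ∈ α.ker
              rw [ConjAct.smul_def]
              exact (MonoidHom.normal_ker α).conj_mem h hh _
        _ = _ := (Nat.card_coe_set_eq _).symm
    have hcH : Nat.card (Subgroup.centralizer ({h} : Set H)) *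
        Nat.card (MulAction.orbit (ConjAct H) h) = 5616 := by
      rw [← cardH, Nat.card_coe_set_eq, ← MulAction.index_stabilizer, index_stabilizer_conjAct]
      exact Subgroup.card_mul_index _
    rw [← card_centralizer_map e he] at hcH
    set S := Subgroup.centralizer ({e h} : Set M) with hS
    have hidx : S.index = Nat.card (MulAction.orbit (ConjAct H) h) := by
      have := S.card_mul_index
      rw [card_M, ← hcH] at this
      exact Nat.eq_of_mul_eq_mul_left Nat.card_pos this
    have heh : e h ≠ 1 := fun hh' => h1 (e.injective (hh'.trans he1.symm))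
    have htop : S ≠ ⊤ := fun ht => heh (by
      have : e h ∈ Subgroup.center M := Subgroup.mem_center_iff.2 fun g =>
        Subgroup.mem_centralizer_singleton_iff.1 (show g ∈ S by rw [ht]; trivial)
      rwa [center_M, Subgroup.mem_bot] at this)
    have h432 := index_of_le_fifteen S htop (by omega)
    obtain ⟨i, hi⟩ := transvection_of_card heh (by rw [← hS, h432]; norm_num)
    have hS' : S = Subgroup.centralizer ({tv i} : Set M) := by
      rw [hS]
      rcases hi with hi | hi <;> rw [hi]
      rw [← Subgroup.centralizer_closure, Subgroup.closure_singleton_inv,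
        Subgroup.centralizer_closure]
    have hi13 : S.index ≤ 15 := by omega
    rw [hS'] at hi13
    have hinj : Function.Injective fun j : Fin 52 =>
        (⟨tv j, ⟨ConjAct.toConjAct (conjEl j * (conjEl i)⁻¹), by
          show _ • tv i = tv j
          rw [ConjAct.smul_def, ConjAct.ofConjAct_toConjAct, ← conj_tv i, ← conj_tv j]
          group⟩⟩ : MulAction.orbit (ConjAct M) (tv i)) :=
      fun a b hab => (lab_tv a).unique (by
        rw [show tv a = tv b from congrArg Subtype.val hab]; exact lab_tv b)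
    have h52 := Nat.card_le_card_of_injective _ hinj
    change _ ≤ Nat.card (MulAction.orbit (ConjAct M) (tv i)) at h52
    rw [Nat.card_coe_set_eq, ← MulAction.index_stabilizer, Nat.card_fin] at h52
    rw [index_stabilizer_conjAct] at h52
    omega
  have hαinj : Function.Injective α := (MonoidHom.ker_eq_bot_iff α).1 hK
  set β := flagHom.comp conjPerm
  have hA : Nat.card α.range = 5616 :=
    (Nat.card_congr (MonoidHom.ofInjective hαinj).toEquiv).symm.trans cardH
  let eβ := MonoidHom.ofInjective flagHom_conjPerm_injective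
  have hB : Nat.card β.range = 5616 := (Nat.card_congr eβ.toEquiv).symm.trans card_M
  have hidx : α.range.index ≤ 4 := by
    have h := α.range.card_mul_index
    rw [hA] at h
    have := card_autGraph
    omega
  have hle : β.range ≤ α.range := by
    have h0 : (α.range.comap β).index ≤ 4 := by
      rw [Subgroup.index_comap]
      refine le_trans ?_ hidx
      rw [← Subgroup.relIndex_top_right α.range]
      refine Subgroup.relIndex_le_of_le_right le_top ?_
      rw [Subgroup.relIndex_top_right]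
      exact Subgroup.FiniteIndex.index_ne_zero
    by_contra hcon
    have htop : α.range.comap β ≠ ⊤ := fun ht => hcon (by
      rintro _ ⟨x, rfl⟩
      exact (ht ▸ Subgroup.mem_top x : x ∈ α.range.comap β))
    have := index_bound _ htop
    omega
  have heq : β.range = α.range := Subgroup.eq_of_le_of_card_ge hle (by omega)
  exact ⟨(MonoidHom.ofInjective hαinj).trans ((MulEquiv.subgroupCongr heq.symm).trans eβ.symm)⟩

end CfsgLib.CommGraph.L33
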